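import Groth.Prelude.Def_HMNum
import Groth.Prelude.Def_GmPts
import Groth.Agent.Lib.AlgGrpBasic19.Basic
import Groth.Agent.Lib.HMNum19.Translate
import Groth.Agent.Lib.PtsDetect19.Basic
import Groth.Agent.Lib.UnitsRos.Char
import Groth.Agent.Lib.AlgSpDescent.RedNoeth

/-!
# Uniqueness of linearisations for groups without characters
-/

set_option autoImplicit false
set_option backward.isDefEq.respectTransparency.types false

universe u

open CategoryTheory CategoryTheory.Limits MonoidalCategory CartesianMonoidalCategory MonObj AlgebraicGeometry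
  Opposite TopologicalSpace

noncomputable section

namespace LiftUnique19

section Atlas

variable {S : Scheme.{u}} {X V : Over S} {π : V ⟶ X}

/-- The projection of a line bundle is smooth. -/
theorem smooth_π (A : GLinSh.LinAtlas π) : Smooth π.left := by
  have := A.affine
  refine (HasRingHomProperty.iff_exists_appLE (P := @Smooth)
    (RingHom.Smooth.stableUnderComposition.stableUnderCompositionWithLocalizationAway RingHom.Smooth.holdsForLocalizationAway).1).2 fun v => ?_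
  obtain ⟨U, hxU, y, hy⟩ := A.cover (π.left v)
  obtain ⟨W, hW, hxW, hWU⟩ := exists_isAffineOpen_mem_and_subset hxU
  refine ⟨⟨W, hW⟩, ⟨_, hW.preimage π.left⟩, hxW, le_rfl, ?_⟩
  show (π.left.appLE W (π.left ⁻¹ᵁ W) le_rfl).hom.Smooth
  rw [← Scheme.Hom.app_eq_appLE]
  let e := Polynomial.eval₂RingHom (π.left.app W).hom (GLinSh.res π hWU y)
  have he : (π.left.app W).hom = e.comp Polynomial.C := RingHom.ext fun c => (Polynomial.eval₂_C _ _).symm
  rw [he]
  refine RingHom.Smooth.comp ?_ (RingHom.Smooth.of_bijective (A.coord U y hy W hW hWU))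
  rw [← Polynomial.algebraMap_eq, RingHom.smooth_algebraMap]
  have : Algebra.FormallySmooth Γ(X.left, W) (Polynomial Γ(X.left, W)) :=
    Algebra.FormallySmooth.of_equiv (MvPolynomial.uniqueAlgEquiv Γ(X.left, W) PUnit.{1})
  exact ⟨this, inferInstance⟩

variable {T : Over S}

/-- A point of a line bundle over a chart is determined by the base point and the coordinate. -/
theorem ext_coord (A : GLinSh.LinAtlas π) {U : X.left.Opens} {y : Γ(V.left, π.left ⁻¹ᵁ U)}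
    (hy : y ∈ A.chart U) [Subsingleton ↥T.left] {v v' : T ⟶ V} (hπ : v ≫ π = v' ≫ π)
    (h : ⊤ ≤ v.left ⁻¹ᵁ (π.left ⁻¹ᵁ U)) (h' : ⊤ ≤ v'.left ⁻¹ᵁ (π.left ⁻¹ᵁ U))
    (he : HMNum.evalFn π y v h = HMNum.evalFn π y v' h') : v = v' := by
  have := A.affine
  rcases isEmpty_or_nonempty ↥T.left with hT | ⟨⟨p⟩⟩
  · ext1
    exact isInitialOfIsEmpty.hom_ext _ _
  have hxU : (v ≫ π).left p ∈ U := h (show p ∈ (⊤ : T.left.Opens) from trivial)
  obtain ⟨W, hW, hpW, hWU⟩ := exists_isAffineOpen_mem_and_subset hxU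
  have hW' : IsAffineOpen (π.left ⁻¹ᵁ W) := hW.preimage π.left
  have hv : ⊤ ≤ v.left ⁻¹ᵁ (π.left ⁻¹ᵁ W) := fun z _ => by
    rw [Subsingleton.elim z p]; exact hpW
  have hv' : ⊤ ≤ v'.left ⁻¹ᵁ (π.left ⁻¹ᵁ W) := fun z _ => by
    rw [Subsingleton.elim z p]
    show (v' ≫ π).left p ∈ W
    rw [← hπ]; exact hpW
  have hgen : v.left.appLE (π.left ⁻¹ᵁ W) ⊤ hv = v'.left.appLE (π.left ⁻¹ᵁ W) ⊤ hv' := by
    ext z
    obtain ⟨P, rfl⟩ := (A.coord U y hy W hW hWU).2 z
    induction P using Polynomial.induction_on' with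
    | add P Q hP hQ => simp only [map_add, hP, hQ]
    | monomial i c =>
      simp only [Polynomial.coe_eval₂RingHom, Polynomial.eval₂_monomial, map_mul, map_pow]
      have e1 : v.left.appLE (π.left ⁻¹ᵁ W) ⊤ hv (π.left.app W c)
          = v'.left.appLE (π.left ⁻¹ᵁ W) ⊤ hv' (π.left.app W c) := by
        rw [Scheme.Hom.app_eq_appLE, ← CommRingCat.comp_apply, ← CommRingCat.comp_apply,
          Scheme.Hom.appLE_comp_appLE, Scheme.Hom.appLE_comp_appLE,
          Groth.Agent.HMNum19.appLE_congr (show v.left ≫ π.left = v'.left ≫ π.left from congrArg (fun q : T ⟶ X => q.left) hπ)]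
      have e2 : v.left.appLE (π.left ⁻¹ᵁ W) ⊤ hv (GLinSh.res π hWU y)
          = v'.left.appLE (π.left ⁻¹ᵁ W) ⊤ hv' (GLinSh.res π hWU y) := by
        rw [← CommRingCat.comp_apply, ← CommRingCat.comp_apply, Scheme.Hom.map_appLE,
          Scheme.Hom.map_appLE]
        exact he
      rw [e1]
      exact congrArg (fun t => v'.left.appLE (π.left ⁻¹ᵁ W) ⊤ hv' (π.left.app W c) * t ^ i) e2
  have : IsAffine (π.left ⁻¹ᵁ W).toScheme := hW'
  have hr : Set.range v.left ⊆ Set.range (π.left ⁻¹ᵁ W).ι := by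
    rw [Scheme.Opens.range_ι]
    rintro _ ⟨z, rfl⟩; exact hv (show z ∈ (⊤ : T.left.Opens) from trivial)
  have hr' : Set.range v'.left ⊆ Set.range (π.left ⁻¹ᵁ W).ι := by
    rw [Scheme.Opens.range_ι]
    rintro _ ⟨z, rfl⟩; exact hv' (show z ∈ (⊤ : T.left.Opens) from trivial)
  ext1
  rw [← IsOpenImmersion.lift_fac (π.left ⁻¹ᵁ W).ι v.left hr,
    ← IsOpenImmersion.lift_fac (π.left ⁻¹ᵁ W).ι v'.left hr']
  congr 1
  apply ext_of_isAffine
  set W' := π.left ⁻¹ᵁ W with hWdef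
  have key : ∀ (f : T.left ⟶ W'.toScheme) (hf : ⊤ ≤ (f ≫ W'.ι) ⁻¹ᵁ W'),
      W'.topIso.inv ≫ f.appTop = (f ≫ W'.ι).appLE W' ⊤ hf := by
    intro f hf
    refine Eq.trans ?_ (Scheme.Hom.appLE_comp_appLE f W'.ι W' ⊤ ⊤
      (by rw [Scheme.Opens.ι_preimage_self]) le_top)
    rw [Scheme.Opens.ι_appLE, Scheme.Hom.appTop, Scheme.Hom.app_eq_appLE]
    rfl
  rw [← cancel_epi W'.topIso.inv, key _ (by rw [IsOpenImmersion.lift_fac]; exact hv),
    key _ (by rw [IsOpenImmersion.lift_fac]; exact hv'),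
    Groth.Agent.HMNum19.appLE_congr (IsOpenImmersion.lift_fac W'.ι v.left hr),
    Groth.Agent.HMNum19.appLE_congr (IsOpenImmersion.lift_fac W'.ι v'.left hr'), hgen]

theorem evalFn_comp {U : X.left.Opens} (y : Γ(V.left, π.left ⁻¹ᵁ U)) {T' : Over S} (g : T' ⟶ T)
    (v : T ⟶ V) (h : ⊤ ≤ v.left ⁻¹ᵁ (π.left ⁻¹ᵁ U)) (h' : ⊤ ≤ (g ≫ v).left ⁻¹ᵁ (π.left ⁻¹ᵁ U)) :
    HMNum.evalFn π y (g ≫ v) h' = g.left.appTop (HMNum.evalFn π y v h) := by
  rw [HMNum.evalFn, HMNum.evalFn, ← CommRingCat.comp_apply]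
  congr 2
  refine Eq.trans ?_ (congrArg _ (Scheme.Hom.app_eq_appLE g.left).symm)
  exact (Scheme.Hom.appLE_comp_appLE g.left v.left (π.left ⁻¹ᵁ U) ⊤ ⊤ h le_top).symm

theorem top_le_of_π {U : X.left.Opens} {v : T ⟶ V} {x : T ⟶ X} (hv : v ≫ π = x)
    (hx : ⊤ ≤ x.left ⁻¹ᵁ U) : ⊤ ≤ v.left ⁻¹ᵁ (π.left ⁻¹ᵁ U) := by
  subst hv; exact hx

end Atlas

variable {k : Type u} [Field k] [IsAlgClosed k]


omit [IsAlgClosed k] in
theorem unit_or_zero (c : Γ((𝟙_ (Over (Spec (CommRingCat.of k)))).left, ⊤)) : c = 0 ∨ IsUnit c := by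
  rcases eq_or_ne ((Scheme.ΓSpecIso (CommRingCat.of k)).hom c) 0 with h | h
  · left
    have := congrArg (Scheme.ΓSpecIso (CommRingCat.of k)).inv h
    rw [map_zero, ← CommRingCat.comp_apply, Iso.hom_inv_id] at this
    exact this
  · right
    have := (isUnit_iff_ne_zero.2 h).map (Scheme.ΓSpecIso (CommRingCat.of k)).inv.hom
    rw [← CommRingCat.comp_apply, Iso.hom_inv_id] at this
    exact this

/-- The unit object of `Over S` presented by a structure map equal to the identity. -/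
def unitIso {S : Scheme.{u}} (f : S ⟶ S) (hf : f = 𝟙 S) : 𝟙_ (Over S) ≅ Over.mk f :=
  Over.isoMk (Iso.refl S) (by
    show (Iso.refl S).hom ≫ f = 𝟙 S
    rw [hf]; simp)

/-- The two forms of the base point agree. -/
def eIso : (𝟙_ (Over (Spec (CommRingCat.of k)))) ≅ Groth.Agent.PtsDetect19.sp (k := k) k :=
  unitIso (Spec.map (CommRingCat.ofHom (algebraMap k k))) (by
    rw [Algebra.algebraMap_self, CommRingCat.ofHom_id, Spec.map_id])

/-- Points with values in `k` from points with values in `Spec k` over itself. -/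
def eSp : (𝟙_ (Over (Spec (CommRingCat.of k)))) ⟶ Groth.Agent.PtsDetect19.sp (k := k) k := eIso.hom

instance : IsIso (eSp (k := k)) := inferInstanceAs (IsIso eIso.hom)

/-- A global function on a scheme of finite type, invertible at all points, is a unit. -/
theorem isUnit_of_points {W : Over (Spec (CommRingCat.of k))} [LocallyOfFiniteType W.hom]
    (r : Γ(W.left, ⊤)) (h : ∀ w : (𝟙_ (Over (Spec (CommRingCat.of k)))) ⟶ W, IsUnit (w.left.appTop r)) :
    IsUnit r := by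
  have : JacobsonSpace W.left := LocallyOfFiniteType.jacobsonSpace (Y := Spec _) W.hom
  refine RingedSpace.isUnit_of_isUnit_germ _ ⊤ r fun x hx => ?_
  suffices hbo : W.left.basicOpen r = ⊤ by
    have hx' : x ∈ W.left.basicOpen r := by rw [hbo]; trivial
    exact (W.left.toRingedSpace.mem_basicOpen r x hx).1 hx'
  by_contra hne
  obtain ⟨z, hz1, hz2⟩ := nonempty_inter_closedPoints
    (Z := ((W.left.basicOpen r : Set W.left))ᶜ)
    (Set.nonempty_compl.2 fun hu => hne (Opens.ext hu))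
    (W.left.basicOpen r).isOpen.isClosed_compl.isLocallyClosed
  obtain ⟨w, hw⟩ := Groth.Agent.PtsDetect19.exists_point k z hz2
  let p : (𝟙_ (Over (Spec (CommRingCat.of k)))).left := IsLocalRing.closedPoint k
  have h1 : p ∈ (eSp ≫ w).left ⁻¹ᵁ W.left.basicOpen r := by
    rw [Scheme.Hom.preimage_basicOpen_top, Scheme.basicOpen_of_isUnit _ (h (eSp ≫ w))]
    trivial
  have h2 : (eSp ≫ w).left p = z := by
    rw [Over.comp_left, Scheme.Hom.comp_apply]
    exact hw _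
  exact hz1 (h2 ▸ h1)

variable {G X V : Over (Spec (CommRingCat.of k))} [GrpObj G] {a : AlgGrp.Action G X} {π : V ⟶ X} {A : GLinSh.LinAtlas π}

omit [IsAlgClosed k] in
theorem lift_π {T : Over (Spec (CommRingCat.of k))} {Φ : AlgGrp.Action G V} (h : Φ.act ≫ π = (G ◁ π) ≫ a.act)
    (g : T ⟶ G) (v : T ⟶ V) : (lift g v ≫ Φ.act) ≫ π = lift g (v ≫ π) ≫ a.act := by
  rw [Category.assoc, h, lift_whiskerLeft_assoc]

/-- Two linear lifts of an action of a group without characters agree at points. -/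
theorem point_eq [Smooth G.hom] [ConnectedSpace G.left]
    (hχ : ∀ (χ : G ⟶ Red.Gm (Spec (CommRingCat.of k))) [IsMonHom χ], χ = 1)
    {Φ₁ Φ₂ : AlgGrp.Action G V} {h₁ : Φ₁.act ≫ π = (G ◁ π) ≫ a.act}
    {h₂ : Φ₂.act ≫ π = (G ◁ π) ≫ a.act}
    (hl₁ : GLinSh.IsLinearLift a π Φ₁ A.chart h₁) (hl₂ : GLinSh.IsLinearLift a π Φ₂ A.chart h₂)
    (γ : (𝟙_ (Over (Spec (CommRingCat.of k)))) ⟶ G) (v : (𝟙_ (Over (Spec (CommRingCat.of k)))) ⟶ V) : lift γ v ≫ Φ₁.act = lift γ v ≫ Φ₂.act := by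
  have : Subsingleton ↥(𝟙_ (Over (Spec (CommRingCat.of k)))).left := inferInstanceAs (Subsingleton (PrimeSpectrum k))
  let p : (𝟙_ (Over (Spec (CommRingCat.of k)))).left := IsLocalRing.closedPoint k
  let x : (𝟙_ (Over (Spec (CommRingCat.of k)))) ⟶ X := v ≫ π
  obtain ⟨U, hxU, y, hy⟩ := A.cover (x.left p)
  have hx : ⊤ ≤ x.left ⁻¹ᵁ U := fun z _ => by rw [Subsingleton.elim z p]; exact hxU
  have hv : ⊤ ≤ v.left ⁻¹ᵁ (π.left ⁻¹ᵁ U) := hx
  set Y₀ := HMNum.evalFn π y v hv with hY₀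
  -- values of a coordinate near a translate
  have lin : ∀ (g : (𝟙_ (Over (Spec (CommRingCat.of k)))) ⟶ G), ∃ (U' : X.left.Opens) (y' : Γ(V.left, π.left ⁻¹ᵁ U')),
      y' ∈ A.chart U' ∧ ⊤ ≤ (lift g x ≫ a.act).left ⁻¹ᵁ U' := by
    intro g
    obtain ⟨U', hgU, y', hy'⟩ := A.cover ((lift g x ≫ a.act).left p)
    exact ⟨U', y', hy', fun z _ => by rw [Subsingleton.elim z p]; exact hgU⟩
  obtain ⟨U', y', hy', hgx⟩ := lin γ
  have hb : ∀ (Φ : AlgGrp.Action G V) (_ : Φ.act ≫ π = (G ◁ π) ≫ a.act) (w : (𝟙_ (Over (Spec (CommRingCat.of k)))) ⟶ V), w ≫ π = x →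
      ⊤ ≤ (lift γ w ≫ Φ.act).left ⁻¹ᵁ (π.left ⁻¹ᵁ U') := fun Φ hΦ w hw =>
    top_le_of_π (by rw [lift_π hΦ, hw]) hgx
  by_cases h0 : Y₀ = 0
  · -- the zero point
    obtain ⟨c₁, hc₁⟩ := Groth.Agent.HMNum19.exists_eval_act hl₁ hy hy' γ x (top_le_iff.1 hx) (top_le_iff.1 hgx)
    obtain ⟨c₂, hc₂⟩ := Groth.Agent.HMNum19.exists_eval_act hl₂ hy hy' γ x (top_le_iff.1 hx) (top_le_iff.1 hgx)
    refine ext_coord A hy' (by rw [lift_π h₁, lift_π h₂]) (hb Φ₁ h₁ v rfl) (hb Φ₂ h₂ v rfl) ?_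
    rw [hc₁ v rfl hv, hc₂ v rfl hv, ← hY₀, h0, mul_zero, mul_zero]
  have hY : IsUnit Y₀ := (unit_or_zero Y₀).resolve_left h0
  let h : G ⟶ V := lift (GrpObj.inv) (lift (𝟙 G) (toUnit G ≫ v) ≫ Φ₁.act) ≫ Φ₂.act
  have hpt : ∀ g : (𝟙_ (Over (Spec (CommRingCat.of k)))) ⟶ G, g ≫ h = lift g⁻¹ (lift g v ≫ Φ₁.act) ≫ Φ₂.act := by
    intro g
    show g ≫ lift _ _ ≫ _ = _
    rw [← Category.assoc, comp_lift, ← Category.assoc g, comp_lift, Category.comp_id, ← Category.assoc g,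
      toUnit_unique (g ≫ toUnit G) (𝟙 _), Category.id_comp]
    rfl
  have hπ : h ≫ π = toUnit G ≫ x := by
    show (lift _ _ ≫ _) ≫ π = _
    rw [lift_π h₂, lift_π h₁, ← Groth.Agent.AlgGrpBasic19.act_mul, Category.assoc]
    rw [show (GrpObj.inv : G ⟶ G) * 𝟙 G = 1 from by
      rw [GrpObj.inv_eq_inv, inv_mul_cancel], Groth.Agent.AlgGrpBasic19.act_one]
  have hh : ⊤ ≤ h.left ⁻¹ᵁ (π.left ⁻¹ᵁ U) := top_le_of_π hπ fun z _ => hx (show _ from trivial)
  set r := HMNum.evalFn π y h hh with hr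
  have hval : ∀ (g : (𝟙_ (Over (Spec (CommRingCat.of k)))) ⟶ G) (h' : ⊤ ≤ (g ≫ h).left ⁻¹ᵁ (π.left ⁻¹ᵁ U)),
      g.left.appTop r = HMNum.evalFn π y (g ≫ h) h' := fun g h' => (evalFn_comp y g h hh h').symm
  -- nonvanishing
  have hunit : ∀ g : (𝟙_ (Over (Spec (CommRingCat.of k)))) ⟶ G, IsUnit (g.left.appTop r) := by
    intro g
    obtain ⟨U₁, y₁, hy₁, hg₁⟩ := lin g
    have hgh : (g ≫ h) ≫ π = x := by
      rw [Category.assoc, hπ, ← Category.assoc, toUnit_unique (g ≫ toUnit G) (𝟙 _), Category.id_comp]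
    have hgh' : ⊤ ≤ (g ≫ h).left ⁻¹ᵁ (π.left ⁻¹ᵁ U) := top_le_of_π hgh hx
    rw [hval g hgh']
    refine (unit_or_zero _).resolve_left fun hz => ?_
    let w := lift g v ≫ Φ₁.act
    have hw : w ≫ π = lift g x ≫ a.act := lift_π h₁ g v
    have e2 : lift g (g ≫ h) ≫ Φ₂.act = w := by
      rw [hpt, ← Groth.Agent.AlgGrpBasic19.act_mul, mul_inv_cancel, Groth.Agent.AlgGrpBasic19.act_one]
    obtain ⟨c₂, hc₂⟩ := Groth.Agent.HMNum19.exists_eval_act hl₂ hy hy₁ g x (top_le_iff.1 hx) (top_le_iff.1 hg₁)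
    have hw₁ : ⊤ ≤ w.left ⁻¹ᵁ (π.left ⁻¹ᵁ U₁) := top_le_of_π hw hg₁
    have z1 : HMNum.evalFn π y₁ w hw₁ = 0 := by
      have := hc₂ (g ≫ h) hgh hgh' (by rw [e2]; exact hw₁)
      rw [hz, mul_zero] at this
      simpa only [e2] using this
    have e1 : lift g⁻¹ w ≫ Φ₁.act = v := by
      rw [← Groth.Agent.AlgGrpBasic19.act_mul, inv_mul_cancel, Groth.Agent.AlgGrpBasic19.act_one]
    have hback : lift g⁻¹ (lift g x ≫ a.act) ≫ a.act = x := by
      rw [← Groth.Agent.AlgGrpBasic19.act_mul, inv_mul_cancel, Groth.Agent.AlgGrpBasic19.act_one]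
    obtain ⟨c₁, hc₁⟩ := Groth.Agent.HMNum19.exists_eval_act hl₁ hy₁ hy g⁻¹ (lift g x ≫ a.act) (top_le_iff.1 hg₁)
      (top_le_iff.1 (by rw [hback]; exact hx))
    have := hc₁ w hw hw₁ (by rw [e1]; exact hv)
    rw [z1, mul_zero] at this
    exact h0 (by simpa only [e1] using this)
  have hru := isUnit_of_points r hunit
  let u := (toUnit G).left.appTop ↑(hY.unit⁻¹)
  have hχu : IsUnit (r * u) := hru.mul ((hY.unit⁻¹).isUnit.map _)
  have heη : η[G].left.appTop (r * u) = 1 := by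
    have e : η[G] ≫ h = v := by
      rw [hpt, show (η[G] : (𝟙_ (Over (Spec (CommRingCat.of k)))) ⟶ G) = 1 by rw [Hom.one_def, toUnit_unique (toUnit _) (𝟙 _), Category.id_comp],
        inv_one, Groth.Agent.AlgGrpBasic19.act_one, Groth.Agent.AlgGrpBasic19.act_one]
    rw [map_mul, hval η (by rw [e]; exact hv), ← Groth.Agent.UnitsRos.appTop_comp,
      toUnit_unique (η[G] ≫ toUnit G) (𝟙 _), Groth.Agent.UnitsRos.appTop_id]
    simp only [e]
    exact hY.mul_val_inv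
  have hchar := Groth.Agent.UnitsRos.isChar G hχu heη
  let χ : G ⟶ Red.Gm (Spec (CommRingCat.of k)) := GmPts.ptOfUnit hχu.unit
  have hgm : Red.gmFn χ = r * u := GmPts.gmFn_ptOfUnit _
  have : IsMonHom χ :=
    { one_hom := GmPts.gmFn_injective (by
        show Red.gmFn (η ≫ χ) = Red.gmFn (η : (𝟙_ (Over (Spec (CommRingCat.of k)))) ⟶ Red.Gm (Spec (CommRingCat.of k)))
        rw [GmPts.gmFn_comp, hgm, heη, show (η : (𝟙_ (Over (Spec (CommRingCat.of k)))) ⟶ Red.Gm (Spec (CommRingCat.of k))) = 1 by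
          rw [Hom.one_def, toUnit_unique (toUnit _) (𝟙 _), Category.id_comp], GmPts.gmFn_one])
      mul_hom := GmPts.gmFn_injective (by
        show Red.gmFn (μ ≫ χ) = Red.gmFn ((χ ⊗ₘ χ) ≫ μ)
        rw [GmPts.gmFn_comp, hgm, hchar, show (χ ⊗ₘ χ) ≫ μ = (fst G G ≫ χ) * (snd G G ≫ χ) by
          rw [Hom.mul_def]; congr 1, GmPts.gmFn_mul, GmPts.gmFn_comp, GmPts.gmFn_comp, hgm]) }
  have hr1 : r * u = 1 := by rw [← hgm, hχ χ, GmPts.gmFn_one]
  have hγ : γ ≫ h = v := by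
    have hgh : (γ ≫ h) ≫ π = x := by
      rw [Category.assoc, hπ, ← Category.assoc, toUnit_unique (γ ≫ toUnit G) (𝟙 _), Category.id_comp]
    refine ext_coord A hy hgh (top_le_of_π hgh hx) hv ?_
    rw [← hval γ]
    have := congrArg γ.left.appTop hr1
    rw [map_mul, map_one, ← Groth.Agent.UnitsRos.appTop_comp, toUnit_unique (γ ≫ toUnit G) (𝟙 _),
      Groth.Agent.UnitsRos.appTop_id, Units.mul_inv_eq_one] at this
    exact this
  calc lift γ v ≫ Φ₁.act
      = lift γ (γ ≫ h) ≫ Φ₂.act := by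
        rw [hpt, ← Groth.Agent.AlgGrpBasic19.act_mul, mul_inv_cancel, Groth.Agent.AlgGrpBasic19.act_one]
    _ = lift γ v ≫ Φ₂.act := by rw [hγ]

/-- Two linear lifts of an action of a group without characters are equal. -/
theorem lift_eq [Smooth G.hom] [ConnectedSpace G.left] [LocallyOfFiniteType X.hom] [IsReduced X.left]
    (hχ : ∀ (χ : G ⟶ Red.Gm (Spec (CommRingCat.of k))) [IsMonHom χ], χ = 1)
    {Φ₁ Φ₂ : AlgGrp.Action G V} {h₁ : Φ₁.act ≫ π = (G ◁ π) ≫ a.act}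
    {h₂ : Φ₂.act ≫ π = (G ◁ π) ≫ a.act}
    (hl₁ : GLinSh.IsLinearLift a π Φ₁ A.chart h₁) (hl₂ : GLinSh.IsLinearLift a π Φ₂ A.chart h₂) :
    Φ₁.act = Φ₂.act := by
  have := smooth_π A
  have := A.affine
  have hV : IsReduced V.left := Groth.Agent.AlgSpDescent.isReduced_of_smooth π.left
  have : LocallyOfFiniteType V.hom := by rw [← Over.w π]; infer_instance
  have hGV : IsReduced (G ⊗ V).left :=
    Groth.Agent.AlgSpDescent.isReduced_of_smooth (pullback.snd G.hom V.hom)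
  have : LocallyOfFiniteType (G ⊗ V).hom := by rw [Over.tensorObj_hom]; infer_instance
  let P : Over (Spec (CommRingCat.of k)) := Over.mk (pullback.fst π.left π.left ≫ V.hom)
  let c : V ⟶ P := Over.homMk (pullback.diagonal π.left) (by simp [P])
  have : IsClosedImmersion c.left := inferInstanceAs (IsClosedImmersion (pullback.diagonal π.left))
  let m : G ⊗ V ⟶ P := Over.homMk (pullback.lift Φ₁.act.left Φ₂.act.left
    (by rw [← Over.comp_left, h₁, ← Over.comp_left, h₂]))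
    (by show pullback.lift _ _ _ ≫ pullback.fst _ _ ≫ V.hom = _
        rw [pullback.lift_fst_assoc, Over.w])
  obtain ⟨l, hl⟩ := Groth.Agent.PtsDetect19.exists_lift_algClosed k m c (fun w => by
    let w' := eSp ≫ w
    have e := point_eq hχ hl₁ hl₂ (w' ≫ fst G V) (w' ≫ snd G V)
    rw [← comp_lift, lift_fst_snd, Category.comp_id] at e
    refine ⟨inv (eSp (k := k)) ≫ w' ≫ Φ₁.act, ?_⟩
    rw [← cancel_epi (eSp (k := k))]
    simp only [IsIso.hom_inv_id_assoc, Category.assoc]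
    apply Over.OverMorphism.ext
    apply pullback.hom_ext
    · show (w'.left ≫ Φ₁.act.left ≫ pullback.diagonal π.left) ≫ pullback.fst _ _ =
        (eSp.left ≫ w.left ≫ pullback.lift _ _ _) ≫ pullback.fst _ _
      simp only [w', Over.comp_left, Category.assoc, pullback.diagonal_fst, Category.comp_id]
      erw [pullback.lift_fst]
    · show (w'.left ≫ Φ₁.act.left ≫ pullback.diagonal π.left) ≫ pullback.snd _ _ =
        (eSp.left ≫ w.left ≫ pullback.lift _ _ _) ≫ pullback.snd _ _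
      simp only [w', Over.comp_left, Category.assoc, pullback.diagonal_snd, Category.comp_id]
      erw [pullback.lift_snd]
      simpa [w'] using congrArg (fun q : (𝟙_ (Over (Spec (CommRingCat.of k)))) ⟶ V => q.left) e)
  apply Over.OverMorphism.ext
  have hl' : l.left ≫ pullback.diagonal π.left = pullback.lift Φ₁.act.left Φ₂.act.left _ :=
    congrArg (fun q : G ⊗ V ⟶ P => q.left) hl
  have e1 := congrArg (· ≫ pullback.fst π.left π.left) hl'
  have e2 := congrArg (· ≫ pullback.snd π.left π.left) hl'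
  simp at e1 e2
  erw [pullback.lift_fst] at e1
  erw [pullback.lift_snd] at e2
  exact e1.symm.trans e2

end LiftUnique19
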